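import Mathlib

/-!
Projective modules over local rings with nilpotent maximal ideal are free.
-/

set_option autoImplicit false
set_option linter.style.haveILetI false
universe u v
open IsLocalRing

namespace Groth.Agent.ArtFree

variable {R : Type u} [CommRing R] {M : Type v} [AddCommGroup M] [Module R M]

theorem eq_top_of_sup_smul_eq_top {I : Ideal R} (hI : IsNilpotent I) {N : Submodule R M}
    (h : N ⊔ I • ⊤ = ⊤) : N = ⊤ := by
  have key : ∀ n : ℕ, N ⊔ I ^ n • ⊤ = ⊤ := by
    intro n
    induction n with
    | zero => rw [pow_zero, Ideal.one_eq_top, Submodule.top_smul, sup_top_eq]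
    | succ n ih =>
      refine top_unique (ih.ge.trans (sup_le le_sup_left ?_))
      refine le_of_eq_of_le (congrArg (fun S : Submodule R M => I ^ n • S) h.symm) ?_
      rw [Submodule.smul_sup, ← Submodule.mul_smul, ← pow_succ]
      exact sup_le (le_sup_of_le_left (Submodule.smul_le.2 fun a _ x hx => N.smul_mem a hx)) le_sup_right
  obtain ⟨n, hn⟩ := hI
  simpa [hn] using key n

theorem free_of_projective_of_nilpotent [IsLocalRing R] (h : IsNilpotent (maximalIdeal R)) [Module.Projective R M] :
    Module.Free R M := by
  classical
  let m := maximalIdeal R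
  let Q := M ⧸ (m • ⊤ : Submodule R M)
  letI : Field (R ⧸ m) := Ideal.Quotient.field m
  let b := Module.Basis.ofVectorSpace (R ⧸ m) Q
  choose l hl using fun i => Submodule.Quotient.mk_surjective (m • ⊤ : Submodule R M) (b i)
  let f := Finsupp.linearCombination R l
  have hsurj : Function.Surjective f := by
    rw [← LinearMap.range_eq_top, Finsupp.range_linearCombination]
    refine eq_top_of_sup_smul_eq_top h (eq_top_iff.2 fun x _ => ?_)
    have hx : Submodule.Quotient.mk x ∈ (Submodule.span R (Set.range b) : Submodule R Q) := by
      rw [← Submodule.restrictScalars_span R (R ⧸ m) Ideal.Quotient.mk_surjective, b.span_eq]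
      trivial
    have himg : Set.range b = (m • ⊤ : Submodule R M).mkQ '' Set.range l := by
      rw [← Set.range_comp]; exact congrArg Set.range (funext fun i => (hl i).symm)
    rw [himg, ← Submodule.map_span] at hx
    obtain ⟨y, hy, hyx⟩ := hx
    rw [← add_sub_cancel y x]
    exact Submodule.add_mem_sup hy ((Submodule.Quotient.eq _).1 hyx.symm)
  obtain ⟨s, hs⟩ := Module.projective_lifting_property f LinearMap.id hsurj
  have hker : LinearMap.ker f ≤ m • ⊤ := by
    intro z hz
    have h0 : ∀ i, Ideal.Quotient.mk m (z i) = 0 := by
      have h1 : Finsupp.linearCombination (R ⧸ m) b (z.mapRange (Ideal.Quotient.mk m) (map_zero _)) = 0 := by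
        rw [Finsupp.linearCombination_apply, Finsupp.sum_mapRange_index (h := fun i a => a • b i) (fun _ => zero_smul _ _)]
        have : (m • ⊤ : Submodule R M).mkQ (f z) = 0 := by rw [LinearMap.mem_ker.1 hz, map_zero]
        rw [Finsupp.linearCombination_apply, map_finsuppSum] at this
        rw [← this]
        refine Finsupp.sum_congr fun i _ => ?_
        rw [map_smul, Submodule.mkQ_apply, hl]
        exact (algebraMap_smul (R ⧸ m) (z i) (b i))
      have h2 := linearIndependent_iff.1 b.linearIndependent _ h1
      intro i
      simpa using DFunLike.congr_fun h2 i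
    rw [← z.sum_single]
    refine Submodule.sum_mem _ fun i _ => ?_
    rw [← Finsupp.smul_single_one]
    exact Submodule.smul_mem_smul (Ideal.Quotient.eq_zero_iff_mem.1 (h0 i)) trivial
  let π := LinearMap.id - s ∘ₗ f
  have hπ : ∀ z, π z ∈ LinearMap.ker f := fun z => by
    rw [LinearMap.mem_ker]
    show f (z - s (f z)) = 0
    rw [map_sub, ← LinearMap.comp_apply f s, hs, LinearMap.id_apply, sub_self]
  have hπid : ∀ z ∈ LinearMap.ker f, π z = z := fun z hz => by
    show z - s (f z) = z
    rw [LinearMap.mem_ker.1 hz, map_zero, sub_zero]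
  have hinj : Function.Injective f := by
    rw [← LinearMap.ker_eq_bot]
    have key : ∀ n, LinearMap.ker f ≤ m ^ n • LinearMap.ker f := by
      have h1 : LinearMap.ker f ≤ m • LinearMap.ker f := by
        intro z hz
        have : π z ∈ (m • ⊤ : Submodule R _).map π := Submodule.mem_map_of_mem (hker hz)
        rw [hπid z hz, Submodule.map_smul''] at this
        refine Submodule.smul_mono le_rfl ?_ this
        rintro _ ⟨y, -, rfl⟩
        exact hπ y
      intro n
      induction n with
      | zero => rw [pow_zero, Ideal.one_eq_top, Submodule.top_smul]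
      | succ n ih =>
        rw [pow_succ, Submodule.mul_smul]
        exact ih.trans (Submodule.smul_mono le_rfl h1)
    obtain ⟨n, hn⟩ := h
    rw [eq_bot_iff]
    exact (key n).trans (by rw [hn, Ideal.zero_eq_bot, Submodule.bot_smul])
  exact Module.Free.of_equiv (LinearEquiv.ofBijective f ⟨hinj, hsurj⟩)

end Groth.Agent.ArtFree

open TensorProduct in
theorem Groth.Agent.ArtFree.free_of_flat_of_nilpotent {R : Type u} [CommRing R] [IsLocalRing R] {M : Type u}
    [AddCommGroup M] [Module R M] [Module.Flat R M] (h : IsNilpotent (IsLocalRing.maximalIdeal R)) :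
    Module.Free R M := by
  classical
  let k := IsLocalRing.ResidueField R
  let w := Module.Free.chooseBasis k (k ⊗[R] M)
  obtain ⟨v, hv⟩ := (TensorProduct.mk_surjective R M k IsLocalRing.residue_surjective).comp_left w
  have hli : LinearIndependent R v :=
    Module.IsLocalRing.linearIndependent_of_flat v (by
      show LinearIndependent k (TensorProduct.mk R k M 1 ∘ v)
      have hv' : TensorProduct.mk R k M 1 ∘ v = w := hv
      rw [hv']
      exact w.linearIndependent)
  refine Module.Free.of_basis (Module.Basis.mk hli (ge_of_eq (Groth.Agent.ArtFree.eq_top_of_sup_smul_eq_top h ?_)))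
  rw [eq_top_iff]
  intro x _
  have hx : (1 : k) ⊗ₜ[R] x ∈ (Submodule.span R (Set.range w) : Submodule R (k ⊗[R] M)) := by
    rw [← Submodule.restrictScalars_span R k IsLocalRing.residue_surjective, w.span_eq]
    trivial
  rw [show Set.range w = TensorProduct.mk R k M 1 '' Set.range v by rw [← Set.range_comp]; exact congrArg Set.range hv.symm,
    ← Submodule.map_span] at hx
  obtain ⟨y, hy, hyx⟩ := hx
  rw [← add_sub_cancel y x]
  refine Submodule.add_mem_sup hy ?_
  rw [← LinearMap.ker_tensorProductMk, LinearMap.mem_ker, map_sub, sub_eq_zero]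
  exact hyx.symm
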